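import Cfsg.Agent.H410.QA.U62Elts
import Cfsg.Agent.H559.USixSpec_m3
import Cfsg.Agent.S0280
import Cfsg.Agent.FastGrp
import Cfsg.Agent.Prune
set_option linter.all false
prune_inst 0x7f00000000000000000000000000000000000000000000000000000000000000000000000000000000000000000000000000000000000000000000000000000000000000000000000000000000000000003fffffffffffffffffffffffffffbeffbdffffffff
open scoped Cfsg.Agent.FastGrp

/-!
# S4816, row `U₆(2)`: the normalizers of the Sylow 7- and 11-subgroups (helper365)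

* `card_nx`       : `x` of prime order `p`, `|C(x)| = p`: `|N(⟨x⟩)| = p * w` with `w ∣ p - 1`, and every `g` with
  `g x g⁻¹ = x ^ r` gives `(order of r mod p) ∣ w`;
* `nx_modEq`      : if `p ^ 2 ∤ |S|` then `|S : N(⟨x⟩)| ≡ 1 mod p`;
* `card_norm_seven`, `card_norm_eleven`, `not_dvd_sq`.
-/

set_option autoImplicit false
set_option linter.unusedSectionVars false

namespace Cfsg.Agent.H365.RIM

open Cfsg Cfsg.Agent.SporadicA.FieldFour Cfsg.Agent.H852.USixElts Cfsg.Agent.H410.QA

/-- the centralizer of an element of prime order -/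
theorem cent_of_orders {S : Type*} [Group S] [Finite S] {p : ℕ} (hp : p.Prime) {x : S} (hx : orderOf x = p)
    (h2 : ¬ p ^ 2 ∣ Nat.card S) (h : ∀ g : S, p ∣ orderOf g → g ^ p = 1) :
    Nat.card (Subgroup.centralizer ({x} : Set S)) = p := by
  have : Fact p.Prime := ⟨hp⟩
  set C := Subgroup.centralizer ({x} : Set S) with hC
  have hxC : x ∈ C := by
    rw [hC, Subgroup.mem_centralizer_singleton_iff]
  have hpd : p ∣ Nat.card C := by
    have h1 := orderOf_dvd_natCard (⟨x, hxC⟩ : C)
    rwa [Subgroup.orderOf_mk, hx] at h1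
  have hpow : ∀ c ∈ C, c ^ p = 1 := by
    intro c hc
    have hcx : Commute c x := by
      have h1 := (Subgroup.mem_centralizer_singleton_iff).1 hc
      exact h1
    by_cases hd : p ∣ orderOf c
    · exact h c hd
    · have hcop : Nat.Coprime (orderOf c) (orderOf x) := by
        rw [hx]
        exact ((Nat.Prime.coprime_iff_not_dvd hp).2 hd).symm
      have h1 := hcx.orderOf_mul_eq_mul_orderOf_of_coprime hcop
      have h3 := h (c * x) (by rw [h1, hx]; exact dvd_mul_left _ _)
      have h4 := orderOf_dvd_of_pow_eq_one h3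
      rw [h1, hx] at h4
      have h5 : orderOf c ∣ 1 := Nat.dvd_of_mul_dvd_mul_right hp.pos (by rwa [one_mul])
      have h6 := orderOf_eq_one_iff.1 (Nat.dvd_one.1 h5)
      rw [h6, one_pow]
  have hpg : IsPGroup p C := fun c => ⟨1, Subtype.ext (by rw [pow_one]; exact hpow c c.2)⟩
  obtain ⟨n, hn⟩ := IsPGroup.iff_card.1 hpg
  have h3 : n ≤ 1 := by
    by_contra hcon
    apply h2
    exact (pow_dvd_pow p (by omega)).trans (hn ▸ Subgroup.card_subgroup_dvd_card C)
  have h4 : n ≠ 0 := by
    rintro rfl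
    rw [hn, pow_zero] at hpd
    exact hp.one_lt.ne' (Nat.dvd_one.1 hpd)
  rw [hn, show n = 1 by omega, pow_one]

theorem card_u6 {F : Type} [Field F] [Fintype F] (hF : Fintype.card F = 2 ^ 2) : Nat.card (PSU 6 F 2) = 9196830720 := by
  have h := S0280.result hF 6 (by norm_num)
  rw [show Nat.gcd 6 (2 + 1) = 3 by decide] at h
  simp only [Finset.prod_range_succ, Finset.prod_range_zero] at h
  norm_num [Nat.even_iff] at h
  omega

theorem hF4 : Fintype.card F4 = 2 ^ 2 := rfl

section general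

variable {S : Type*} [Group S] [Finite S]

/-- the normalizer of a self-centralizing element of prime order -/
theorem card_nx {p : ℕ} (hp : p.Prime) {x : S} (hx : orderOf x = p)
    (hC : Nat.card (Subgroup.centralizer ({x} : Set S)) = p) {g : S} {r : ℕ} (hg : g * x * g⁻¹ = x ^ r) :
    ∃ w, Nat.card (Subgroup.normalizer ((Subgroup.zpowers x : Subgroup S) : Set S)) = w * p ∧ w ∣ p - 1 ∧
      ∃ j, 0 < j ∧ j ∣ w ∧ r ^ j % p = 1 := by
  have hcz : Nat.card (Subgroup.zpowers x) = p := by rw [Nat.card_zpowers, hx]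
  let f := (Subgroup.zpowers x).normalizerMonoidHom
  have hker : Nat.card f.ker = p := by
    rw [Subgroup.normalizerMonoidHom_ker, ← hC]
    have h1 : Subgroup.centralizer ((Subgroup.zpowers x : Subgroup S) : Set S) = Subgroup.centralizer ({x} : Set S) := by
      rw [Subgroup.zpowers_eq_closure, Subgroup.centralizer_closure]
    rw [h1]
    refine Nat.card_congr (Subgroup.subgroupOfEquivOfLe ?_).toEquiv
    rw [← h1]
    exact Subgroup.centralizer_le_normalizer _
  have hcard := Subgroup.card_eq_card_quotient_mul_card_subgroup f.ker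
  rw [hker, Nat.card_congr (QuotientGroup.quotientKerEquivRange f).toEquiv] at hcard
  have hmul : Nat.card (MulAut (Subgroup.zpowers x)) = p - 1 := by
    rw [IsCyclic.card_mulAut, hcz, Nat.totient_prime hp]
  refine ⟨Nat.card f.range, hcard, ?_, ?_⟩
  · rw [← hmul]
    exact Subgroup.card_subgroup_dvd_card _
  · have hgN : g ∈ Subgroup.normalizer ((Subgroup.zpowers x : Subgroup S) : Set S) := by
      have h1 : ∀ s ∈ Subgroup.zpowers x, g * s * g⁻¹ ∈ Subgroup.zpowers x := by
        intro s hs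
        obtain ⟨k, rfl⟩ := Subgroup.mem_zpowers_iff.1 hs
        rw [← conj_zpow, hg]
        exact Subgroup.zpow_mem _ (Subgroup.pow_mem _ (Subgroup.mem_zpowers _) _) _
      exact Subgroup.mem_normalizer_fintype h1
    let a : f.range := ⟨f ⟨g, hgN⟩, _, rfl⟩
    refine ⟨orderOf a, orderOf_pos a, orderOf_dvd_natCard a, ?_⟩
    have h1 : ∀ j : ℕ, g ^ j * x * (g ^ j)⁻¹ = x ^ r ^ j := by
      intro j
      induction j with
      | zero => rw [pow_zero, pow_zero, one_mul, inv_one, mul_one, pow_one]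
      | succ j ih =>
        have h2 : g ^ (j + 1) * x * (g ^ (j + 1))⁻¹ = g * (g ^ j * x * (g ^ j)⁻¹) * g⁻¹ := by
          rw [pow_succ']
          group
        rw [h2, ih, ← conj_pow, hg, ← pow_mul, pow_succ, mul_comm]
    have h2 : f (⟨g, hgN⟩ ^ orderOf a) = 1 := by
      rw [map_pow]
      exact congrArg Subtype.val (pow_orderOf_eq_one a)
    have h3 : f (⟨g, hgN⟩ ^ orderOf a) ⟨x, Subgroup.mem_zpowers x⟩ = ⟨x, Subgroup.mem_zpowers x⟩ := by
      rw [h2]
      rfl
    have h4 : g ^ orderOf a * x * (g ^ orderOf a)⁻¹ = x := congrArg Subtype.val h3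
    rw [h1] at h4
    have h5 : x ^ r ^ orderOf a = x ^ 1 := by rw [h4, pow_one]
    rw [pow_eq_pow_iff_modEq, hx] at h5
    rw [h5, Nat.mod_eq_of_lt hp.one_lt]

/-- Sylow's congruence -/
theorem nx_modEq {p : ℕ} (hp : p.Prime) {x : S} (hx : orderOf x = p) (h2 : ¬ p ^ 2 ∣ Nat.card S) :
    (Subgroup.normalizer ((Subgroup.zpowers x : Subgroup S) : Set S)).index ≡ 1 [MOD p] := by
  have hpf : Fact p.Prime := ⟨hp⟩
  have hpx : IsPGroup p (Subgroup.zpowers x) := IsPGroup.of_card (n := 1) (by rw [Nat.card_zpowers, hx, pow_one])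
  obtain ⟨P, hP⟩ := hpx.exists_le_sylow
  obtain ⟨n, hn⟩ := IsPGroup.iff_card.1 P.isPGroup'
  have h3 : n ≤ 1 := by
    by_contra hcon
    exact h2 ((pow_dvd_pow p (by omega)).trans (hn ▸ Subgroup.card_subgroup_dvd_card (P : Subgroup S)))
  have h4 : (P : Subgroup S) = Subgroup.zpowers x := by
    symm
    apply Subgroup.eq_of_le_of_card_ge hP
    rw [hn, Nat.card_zpowers, hx]
    calc p ^ n ≤ p ^ 1 := Nat.pow_le_pow_right hp.pos h3
      _ = p := pow_one p
  have h5 := card_sylow_modEq_one p S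
  rw [P.card_eq_index_normalizer] at h5
  have h6 : (P : Set S) = ((Subgroup.zpowers x : Subgroup S) : Set S) := congrArg (fun H : Subgroup S => (H : Set S)) h4
  rw [h6] at h5
  exact h5

end general

theorem card_PSU : Nat.card (PSU 6 F4 2) = 9196830720 := card_u6 hF4

theorem finite_PSU : Finite (PSU 6 F4 2) := Nat.finite_of_card_ne_zero (by rw [card_PSU]; norm_num)

theorem cent_eleven {x : PSU 6 F4 2} (hx : orderOf x = 11) :
    Nat.card (Subgroup.centralizer ({x} : Set (PSU 6 F4 2))) = 11 := by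
  have := finite_PSU
  exact cent_of_orders (by norm_num) hx (by rw [card_PSU]; norm_num) fun g hg => Cfsg.Agent.H559.USixSpec.eleven rfl g hg

/-- the Sylow 5-, 7-, 11-subgroups are cyclic of prime order -/
theorem not_dvd_sq : ¬ 5 ^ 2 ∣ Nat.card (PSU 6 F4 2) ∧ ¬ 7 ^ 2 ∣ Nat.card (PSU 6 F4 2) ∧
    ¬ 11 ^ 2 ∣ Nat.card (PSU 6 F4 2) := by
  rw [card_PSU]
  norm_num

end Cfsg.Agent.H365.RIM
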